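import Mathlib.Algebra.Module.FinitePresentation
import Mathlib.Algebra.Module.LocalizedModule.Basic
import Mathlib.RingTheory.Localization.BaseChange
import Mathlib.RingTheory.Localization.Finiteness
import Mathlib.LinearAlgebra.TensorProduct.Quotient
import Mathlib.LinearAlgebra.TensorProduct.Tower
import Mathlib.Algebra.Module.Torsion.Basic

/-!
# Finitely presented modules over an epimorphism of fractions of a quotient come from the base
-/

set_option autoImplicit false
set_option linter.style.haveILetI false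

universe u

open scoped TensorProduct

namespace Groth.Agent.FPQuotLoc

variable {R : Type u} [CommRing R] {P : Type u} [CommRing P] [Algebra R P]

/-- A finitely presented module over `P` whose relations are (up to units) defined over `R` is a base
change. -/
theorem exists_baseChange (hfrac : ∀ (m : ℕ) (v : Fin m → P), ∃ u : Pˣ, ∀ i, ∃ r : R, algebraMap R P r = (u : P) * v i)
    (M' : Type u) [AddCommGroup M'] [Module P M'] [Module.FinitePresentation P M'] :
    ∃ (M : Type u) (_ : AddCommGroup M) (_ : Module R M), Module.FinitePresentation R M ∧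
      Nonempty (P ⊗[R] M ≃ₗ[P] M') := by
  classical
  letI : Module R M' := Module.compHom M' (algebraMap R P)
  haveI : IsScalarTower R P M' := ⟨fun r p m => by
    show (r • p) • m = algebraMap R P r • p • m
    rw [Algebra.smul_def, mul_smul]⟩
  obtain ⟨n, f, hf⟩ := Module.Finite.exists_fin' P M'
  have hK : (LinearMap.ker f).FG := Module.FinitePresentation.fg_ker f hf
  obtain ⟨k, g, hg⟩ := Submodule.fg_iff_exists_fin_generating_family.mp hK
  choose u r hr using fun j => hfrac n (g j)
  let rel : Submodule R (Fin n → R) := Submodule.span R (Set.range r)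
  let M := (Fin n → R) ⧸ rel
  refine ⟨M, inferInstance, inferInstance, Module.finitePresentation_of_surjective rel.mkQ rel.mkQ_surjective (by
    rw [Submodule.ker_mkQ]; exact Submodule.fg_span (Set.finite_range r)), ?_⟩
  let ι : (Fin n → R) →ₗ[R] (Fin n → P) := LinearMap.pi fun i => Algebra.linearMap R P ∘ₗ LinearMap.proj i
  have hι : ∀ j, ι (r j) = (u j : P) • g j := fun j => funext fun i => hr j i
  have hrel : rel ≤ LinearMap.ker ((f.restrictScalars R) ∘ₗ ι) := by
    refine Submodule.span_le.mpr ?_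
    rintro _ ⟨j, rfl⟩
    show f (ι (r j)) = 0
    rw [hι, map_smul, show f (g j) = 0 by rw [← LinearMap.mem_ker, ← hg]; exact Submodule.subset_span ⟨j, rfl⟩, smul_zero]
  let φ : P ⊗[R] M →ₗ[P] M' := (rel.liftQ _ hrel).liftBaseChange P
  let b := fun i : Fin n => (1 : P) ⊗ₜ[R] (rel.mkQ (Pi.single i 1))
  let ψ₀ : (Fin n → P) →ₗ[P] P ⊗[R] M := Fintype.linearCombination P b
  have hψι : ∀ x : Fin n → R, ψ₀ (ι x) = (1 : P) ⊗ₜ[R] rel.mkQ x := fun x => by
    rw [Fintype.linearCombination_apply]
    conv_rhs => rw [pi_eq_sum_univ' x, map_sum, TensorProduct.tmul_sum]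
    refine Finset.sum_congr rfl fun i _ => ?_
    show algebraMap R P (x i) • (1 : P) ⊗ₜ[R] rel.mkQ (Pi.single i 1) = (1 : P) ⊗ₜ[R] rel.mkQ (x i • Pi.single i 1)
    rw [algebraMap_smul, map_smul, TensorProduct.tmul_smul]
  have hψ : LinearMap.ker f ≤ LinearMap.ker ψ₀ := by
    rw [← hg, Submodule.span_le]
    rintro _ ⟨j, rfl⟩
    rw [SetLike.mem_coe, LinearMap.mem_ker]
    refine ((u j).isUnit.smul_eq_zero).mp ?_
    rw [← map_smul, ← hι, hψι, Submodule.mkQ_apply, (Submodule.Quotient.mk_eq_zero rel).mpr (Submodule.subset_span ⟨j, rfl⟩), TensorProduct.tmul_zero]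
  let ψ : M' →ₗ[P] P ⊗[R] M := (LinearMap.ker f).liftQ ψ₀ hψ ∘ₗ (f.quotKerEquivOfSurjective hf).symm.toLinearMap
  have hψf : ∀ x, ψ (f x) = ψ₀ x := fun x => by
    show (LinearMap.ker f).liftQ ψ₀ hψ ((f.quotKerEquivOfSurjective hf).symm (f x)) = ψ₀ x
    rw [show (f.quotKerEquivOfSurjective hf).symm (f x) = Submodule.Quotient.mk x from (LinearEquiv.symm_apply_eq _).mpr rfl]
    rfl
  have h1 : ψ ∘ₗ φ = LinearMap.id := by
    refine LinearMap.ext fun z => ?_
    induction z with
    | zero => simp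
    | add a b ha hb => rw [map_add, ha, hb]; rfl
    | tmul p x =>
      obtain ⟨x, rfl⟩ := rel.mkQ_surjective x
      show ψ (p • f (ι x)) = p ⊗ₜ[R] rel.mkQ x
      rw [map_smul, hψf, hψι, TensorProduct.smul_tmul', smul_eq_mul, mul_one]
  have h2 : φ ∘ₗ ψ = LinearMap.id := by
    refine LinearMap.ext fun z => ?_
    obtain ⟨x, rfl⟩ := hf z
    show φ (ψ (f x)) = f x
    rw [hψf, Fintype.linearCombination_apply, map_sum]
    conv_rhs => rw [pi_eq_sum_univ' x, map_sum]
    refine Finset.sum_congr rfl fun i _ => ?_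
    rw [map_smul, map_smul]
    refine congrArg (x i • ·) ?_
    show (1 : P) • f (ι (Pi.single i 1)) = f (Pi.single i 1)
    rw [one_smul]
    refine congrArg f (funext fun j => ?_)
    by_cases h : j = i
    · subst h; simp [ι]
    · simp [ι, Pi.single_eq_of_ne h]
  exact ⟨LinearEquiv.ofLinear φ ψ h2 h1⟩

theorem exists_localized (I : Ideal R) (S : Submonoid R) (M' : Type u) [AddCommGroup M']
    [Module (Localization (S.map (Ideal.Quotient.mk I))) M']
    [Module.FinitePresentation (Localization (S.map (Ideal.Quotient.mk I))) M'] :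
    ∃ (M : Type u) (_ : AddCommGroup M) (_ : Module R M), Module.FinitePresentation R M ∧
      Nonempty (LocalizedModule (S.map (Ideal.Quotient.mk I)) (M ⧸ (I • ⊤ : Submodule R M))
        ≃ₗ[Localization (S.map (Ideal.Quotient.mk I))] M') := by
  classical
  let T := S.map (Ideal.Quotient.mk I)
  let P := Localization T
  have hfrac : ∀ (m : ℕ) (v : Fin m → P), ∃ u : Pˣ, ∀ i, ∃ r : R, algebraMap R P r = (u : P) * v i := by
    intro m v
    obtain ⟨t, ht⟩ := IsLocalization.exist_integer_multiples_of_finite T v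
    refine ⟨(IsLocalization.map_units P t).unit, fun i => ?_⟩
    obtain ⟨c, hc⟩ := ht i
    obtain ⟨r, rfl⟩ := Ideal.Quotient.mk_surjective c
    refine ⟨r, ?_⟩
    rw [IsScalarTower.algebraMap_apply R (R ⧸ I) P, Ideal.Quotient.algebraMap_eq, hc, Algebra.smul_def, IsUnit.unit_spec]
  obtain ⟨M, _, _, hfp, ⟨e⟩⟩ := exists_baseChange hfrac M'
  refine ⟨M, inferInstance, inferInstance, hfp, ⟨?_⟩⟩
  let e₁ : (R ⧸ I) ⊗[R] M ≃ₗ[R ⧸ I] M ⧸ (I • ⊤ : Submodule R M) :=
    LinearEquiv.extendScalarsOfSurjective (R := R) Ideal.Quotient.mk_surjective (TensorProduct.quotTensorEquivQuotSMul M I)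
  exact (LocalizedModule.equivTensorProduct T (M ⧸ (I • ⊤ : Submodule R M))) ≪≫ₗ
    (TensorProduct.AlgebraTensorModule.congr (LinearEquiv.refl P P) e₁.symm) ≪≫ₗ
    (TensorProduct.AlgebraTensorModule.cancelBaseChange R (R ⧸ I) P P M) ≪≫ₗ e

end Groth.Agent.FPQuotLoc
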